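import Groth.Agent.S1118
import Groth.Agent.S0998
import Groth.Agent.S0955
import Groth.Agent.PerfA.QCohD
import Groth.Agent.Dcoh.DerPull2

/-!
# Künneth formula in the derived category: formal part

For a square `p : Z ⟶ X₁`, `q : Z ⟶ X₂`, `f₁`, `f₂` commuting, with `f₂`, `q` quasi-compact and quasi-separated,
from base change `Lf₂^* Rf₁_* P₁ ≅ Rq_* p^*P₁` and the fact that `p^*P₁ ⊗ q^*-` preserves a resolution of `P₂`:
`R(p ≫ f₁)_* (p^*P₁ ⊗ q^*P₂) ≅ Rf₁_* P₁ ⊗ᴸ Rf₂_* P₂`.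
-/

set_option autoImplicit false

universe u

open CategoryTheory CategoryTheory.Limits AlgebraicGeometry

attribute [local instance] HasDerivedCategory.standard

namespace Groth.Agent.Htor.H247.KunnethAbs

open DCoh Groth.Agent.PerfC.DTens Groth.Agent.PerfC.LpullTens Groth.Agent.Dcoh.DerPull

/-- Termwise pullback of complexes. -/
noncomputable abbrev pc {X Y : Scheme.{u}} (f : X ⟶ Y) : CochainComplex Y.Modules ℤ ⥤ CochainComplex X.Modules ℤ :=
  (Scheme.Modules.pullback f).mapHomologicalComplex (ComplexShape.up ℤ)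

section Tensor

variable {Z Y : Scheme.{u}} (q : Z ⟶ Y)

/-- `G ⊗ q^*P ≅ G ⊗ᴸ Lq^*P`, if `G ⊗ q^*-` preserves some K-flat resolution of `P`. -/
theorem nonempty_tensorIso [HasLpull q] (G : CochainComplex Z.Modules ℤ) {P Q : CochainComplex Y.Modules ℤ}
    (u : Q ⟶ P) (hQ : IsKFlat Q) (hu : QuasiIso u)
    (hT : QuasiIso ((tensorCx.obj G).map ((pc q).map u))) :
    Nonempty (toD Z ((tensorCx.obj G).obj ((pc q).obj P)) ≅
      ((LTX Z).obj (toD Z G)).obj ((Lpull q).obj (toD Y P))) := by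
  have h1 : IsIso (DerivedCategory.Q.map ((tensorCx.obj G).map ((pc q).map u))) := inferInstance
  have h2 : IsIso (DerivedCategory.Q.map u) := inferInstance
  exact ⟨(asIso (DerivedCategory.Q.map ((tensorCx.obj G).map ((pc q).map u)))).symm ≪≫
    (κIso' G ((pc q).obj Q) (Groth.Agent.S0952.result q Q hQ)).symm ≪≫
    ((LTX Z).obj (toD Z G)).mapIso ((lpullIso q Q hQ).symm ≪≫
      (Lpull q).mapIso (asIso (DerivedCategory.Q.map u)))⟩

end Tensor

section Kunneth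

variable {X₁ X₂ S Z : Scheme.{u}} {f₁ : X₁ ⟶ S} {f₂ : X₂ ⟶ S} {p : Z ⟶ X₁} {q : Z ⟶ X₂}

/-- Symmetry of the derived tensor product. -/
noncomputable def symmObj {X : Scheme.{u}} (K L : D X) : ((LTX X).obj K).obj L ≅ ((LTX X).obj L).obj K :=
  ((symmIso X).app L).app K

/-- The Künneth isomorphism, from base change and the tensor isomorphism. -/
theorem nonempty_kunneth (w : p ≫ f₁ = q ≫ f₂) [QuasiCompact q] [QuasiSeparated q] [QuasiCompact f₂]
    [QuasiSeparated f₂] [HasRpush f₁] [HasRpush f₂] [HasRpush (p ≫ f₁)] [HasRpush q] [HasLpull q] [HasLpull f₂]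
    (E₁ : D X₁) (hE₁ : IsQCohD ((Rpush f₁).obj E₁)) (G : D Z) (hG : IsQCohD G) (E₂ : D X₂) (hE₂ : IsQCohD E₂)
    (T : D Z) (hT : Nonempty (T ≅ ((LTX Z).obj G).obj ((Lpull q).obj E₂)))
    (hBC : Nonempty ((Lpull f₂).obj ((Rpush f₁).obj E₁) ≅ (Rpush q).obj G)) :
    Nonempty ((Rpush (p ≫ f₁)).obj T ≅ ((LTX S).obj ((Rpush f₁).obj E₁)).obj ((Rpush f₂).obj E₂)) := by
  obtain ⟨eT⟩ := hT
  obtain ⟨eB⟩ := hBC
  haveI : HasRpush (q ≫ f₂) := Groth.Agent.Dcoh.DerSch.hasRpush _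
  haveI : HasLpull (q ≫ f₂) := hasLpull _
  have h1 := Groth.Agent.S1118.isIso_theta_app q G hG E₂ hE₂
  have h2 := Groth.Agent.S1118.isIso_theta_app f₂ E₂ hE₂ ((Rpush f₁).obj E₁) hE₁
  exact ⟨(Rpush (p ≫ f₁)).mapIso eT ≪≫ (rpushCongr w).app _ ≪≫ (rpushCompIso q f₂).symm.app _ ≪≫
    (Rpush f₂).mapIso ((@asIso _ _ _ _ ((theta q G).app E₂) h1).symm ≪≫ symmObj _ _ ≪≫
      ((LTX X₂).obj E₂).mapIso eB.symm) ≪≫
    (@asIso _ _ _ _ ((theta f₂ E₂).app ((Rpush f₁).obj E₁)) h2).symm ≪≫ symmObj _ _⟩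

end Kunneth

end Groth.Agent.Htor.H247.KunnethAbs
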