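import Groth.Agent.Htor.H247.KunnethAbs
import Groth.Agent.Htor.H247.RelTensor
import Groth.Agent.Htor.H254.FlatBC
import Groth.Agent.Fdesc.FlatBC
import Groth.Agent.VarietyB.PullSec
import Groth.Agent.S1062

/-!
# Künneth formula in the derived category, one complex flat over the base

For a cartesian square `p : Z ⟶ X₁`, `q : Z ⟶ X₂` over `f₁ : X₁ ⟶ S`, `f₂ : X₂ ⟶ S` quasi-compact and
quasi-separated, `P₁` a bounded above complex of quasi-coherent modules on `X₁` with terms flat over `S`, `P₂` any complex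
of quasi-coherent modules on `X₂`: `R(p ≫ f₁)_*(p^*P₁ ⊗ q^*P₂) ≅ Rf₁_*P₁ ⊗ᴸ Rf₂_*P₂`.
-/

set_option autoImplicit false

universe u

open CategoryTheory CategoryTheory.Limits AlgebraicGeometry

attribute [local instance] HasDerivedCategory.standard

namespace Groth.Agent.Htor.H247.KunnethFlat

open DCoh Groth.Agent.PerfC.DTens Groth.Agent.PerfC.LpullTens Groth.Agent.Dcoh.DerPull
  Groth.Agent.Htor.H247.KunnethAbs

variable {X₁ X₂ S Z : Scheme.{u}} {f₁ : X₁ ⟶ S} {f₂ : X₂ ⟶ S} {p : Z ⟶ X₁} {q : Z ⟶ X₂}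

lemma isFlatOver_pullback (sq : IsPullback p q f₁ f₂) (M : X₁.Modules) (hM : FlatMod.IsFlatOver f₁ M) :
    FlatMod.IsFlatOver q ((Scheme.Modules.pullback p).obj M) :=
  fun z => Fdesc.FlatBC.isFlatOverAt_pullback sq M z (hM _)

/-- `p^*P₁ ⊗ q^*P₂ ≅ p^*P₁ ⊗ᴸ Lq^*P₂` for `P₁` bounded above with terms flat over `S`. -/
theorem nonempty_ext_iso [HasLpull q] (sq : IsPullback p q f₁ f₂) (P₁ : CochainComplex X₁.Modules ℤ)
    (P₂ : CochainComplex X₂.Modules ℤ) (b₁ : ∃ b : ℤ, ∀ i : ℤ, b < i → IsZero (P₁.X i))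
    (hfl : ∀ i : ℤ, FlatMod.IsFlatOver f₁ (P₁.X i)) :
    Nonempty (toD Z ((tensorCx.obj ((pc p).obj P₁)).obj ((pc q).obj P₂)) ≅
      ((LTX Z).obj (toD Z ((pc p).obj P₁))).obj ((Lpull q).obj (toD X₂ P₂))) := by
  obtain ⟨b, hb⟩ := b₁
  obtain ⟨Q, u, hQ, -, hu, -⟩ := Groth.Agent.S0955.result P₂
  exact nonempty_tensorIso q _ u hQ hu (RelTensor.quasiIso_map q _ b
    (fun i hi => (Scheme.Modules.pullback p).map_isZero (hb i hi))
    (fun i => isFlatOver_pullback sq _ (hfl i)) u hu)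

lemma isQCohD_pull (p : Z ⟶ X₁) (P₁ : CochainComplex X₁.Modules ℤ) (hq₁ : ∀ i : ℤ, Coh.IsQCoh (P₁.X i)) :
    IsQCohD (toD Z ((pc p).obj P₁)) :=
  Groth.Agent.PerfA.QCohD.isQCohD_Q_of_terms _ fun i => Groth.Agent.VarietyB.PullSec.isQCoh_pullback p _ (hq₁ i)

/-- The external tensor product of complexes of quasi-coherent modules has quasi-coherent cohomology. -/
theorem isQCohD_ext (sq : IsPullback p q f₁ f₂) (P₁ : CochainComplex X₁.Modules ℤ)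
    (P₂ : CochainComplex X₂.Modules ℤ) (hq₁ : ∀ i : ℤ, Coh.IsQCoh (P₁.X i)) (hq₂ : ∀ i : ℤ, Coh.IsQCoh (P₂.X i))
    (b₁ : ∃ b : ℤ, ∀ i : ℤ, b < i → IsZero (P₁.X i)) (hfl : ∀ i : ℤ, FlatMod.IsFlatOver f₁ (P₁.X i)) :
    IsQCohD (toD Z ((tensorCx.obj ((pc p).obj P₁)).obj ((pc q).obj P₂))) := by
  have := hasLpull q
  obtain ⟨e⟩ := nonempty_ext_iso sq P₁ P₂ b₁ hfl
  obtain ⟨Q, u, hQ, -, hu, -⟩ := Groth.Agent.S0955.result P₂
  have h1 : IsIso (DerivedCategory.Q.map u) := inferInstance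
  have h2 : IsQCohD ((Lpull q).obj (toD X₂ P₂)) :=
    Groth.Agent.S1054.result q _ (Groth.Agent.PerfA.QCohD.isQCohD_Q_of_terms _ hq₂)
  have e' : (Lpull q).obj (toD X₂ P₂) ≅ toD Z ((pc q).obj Q) :=
    (Lpull q).mapIso (asIso (DerivedCategory.Q.map u)).symm ≪≫ lpullIso q Q hQ
  have h3 : IsQCohD (toD Z ((pc q).obj Q)) := Groth.Agent.PerfA.QCohD.isQCohD_of_iso e' h2
  have h4 := hasLTensorCx ((pc q).obj Q)
  exact Groth.Agent.PerfA.QCohD.isQCohD_of_iso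
    ((LTXcxObj (toD Z ((pc p).obj P₁)) ((pc q).obj Q)).symm ≪≫ ((LTX Z).obj _).mapIso e'.symm ≪≫ e.symm)
    (Groth.Agent.S1062.result Z ((pc q).obj Q) h3 _ (isQCohD_pull p P₁ hq₁))

/-- **Künneth formula**: `R(p ≫ f₁)_*(p^*P₁ ⊗ q^*P₂) ≅ Rf₁_*P₁ ⊗ᴸ Rf₂_*P₂`, for `P₁` bounded above with terms
quasi-coherent and flat over `S`, `P₂` any complex of quasi-coherent modules. -/
theorem nonempty_iso (sq : IsPullback p q f₁ f₂) [QuasiCompact f₁] [QuasiSeparated f₁] [QuasiCompact f₂]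
    [QuasiSeparated f₂] [HasRpush f₁] [HasRpush f₂] [HasRpush (p ≫ f₁)] (P₁ : CochainComplex X₁.Modules ℤ)
    (P₂ : CochainComplex X₂.Modules ℤ) (hq₁ : ∀ i : ℤ, Coh.IsQCoh (P₁.X i)) (hq₂ : ∀ i : ℤ, Coh.IsQCoh (P₂.X i))
    (b₁ : ∃ b : ℤ, ∀ i : ℤ, b < i → IsZero (P₁.X i)) (hfl : ∀ i : ℤ, FlatMod.IsFlatOver f₁ (P₁.X i)) :
    Nonempty ((Rpush (p ≫ f₁)).obj (toD Z ((tensorCx.obj ((pc p).obj P₁)).obj ((pc q).obj P₂))) ≅
      ((LTX S).obj ((Rpush f₁).obj (toD X₁ P₁))).obj ((Rpush f₂).obj (toD X₂ P₂))) := by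
  have hqc : QuasiCompact q := MorphismProperty.of_isPullback (P := @QuasiCompact) sq inferInstance
  have hqs : QuasiSeparated q := MorphismProperty.of_isPullback (P := @QuasiSeparated) sq inferInstance
  have := hasLpull q
  have := hasLpull f₂
  have := Groth.Agent.Dcoh.DerSch.hasRpush q
  refine nonempty_kunneth sq.w (toD X₁ P₁)
    (Groth.Agent.S0998.result f₁ _ (Groth.Agent.PerfA.QCohD.isQCohD_Q_of_terms _ hq₁)) _
    (isQCohD_pull p P₁ hq₁) (toD X₂ P₂) (Groth.Agent.PerfA.QCohD.isQCohD_Q_of_terms _ hq₂) _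
    (nonempty_ext_iso sq P₁ P₂ b₁ hfl) ?_
  obtain ⟨b, hb⟩ := b₁
  exact Groth.Agent.Htor.H254.FlatBC.nonempty_iso sq P₁ hq₁ b hb hfl

end Groth.Agent.Htor.H247.KunnethFlat
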